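/-
Doubly transitive groups with an involution whose centraliser has constant fixity: all involutions
are conjugate and invert the stabilisers of the pairs they exchange.
-/
import Cfsg.Agent.Lib.Invol.Counting

set_option autoImplicit false
set_option linter.unusedSectionVars false

namespace CfsgLib.ConstFix

open MulAction

variable {G Ω : Type*} [Group G] [Finite G] [Fintype Ω] [MulAction G Ω] [FaithfulSMul G Ω]

/-- The number of fixed points. -/
noncomputable abbrev fc (Ω : Type*) [MulAction G Ω] (g : G) : ℕ := Nat.card {x : Ω // g • x = x}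

/-- The stabiliser of two points. -/
abbrev pairStab (G : Type*) {Ω : Type*} [Group G] [MulAction G Ω] (p q : Ω) : Subgroup G :=
  stabilizer G p ⊓ stabilizer G q

/-- The standing hypotheses. -/
structure Hyp (G Ω : Type*) [Group G] [MulAction G Ω] (i : ℕ) (t : G) : Prop where
  h2 : MulAction.IsMultiplyPretransitive G Ω 2
  ht : orderOf t = 2
  hti : fc Ω t = i
  hC : ∀ g : G, Commute g t → g ≠ 1 → fc Ω g = i

theorem fc_conj (g x : G) : fc Ω (g * x * g⁻¹) = fc Ω x :=
  Nat.card_congr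
    { toFun := fun p => ⟨g⁻¹ • (p : Ω), by
        have h := congrArg (g⁻¹ • ·) p.2
        simpa [mul_smul] using h⟩
      invFun := fun p => ⟨g • (p : Ω), by rw [mul_smul, mul_smul, inv_smul_smul, p.2]⟩
      left_inv := fun p => Subtype.ext (smul_inv_smul g (p : Ω))
      right_inv := fun p => Subtype.ext (inv_smul_smul g (p : Ω)) }

theorem two_le_fc {g : G} {p q : Ω} (hpq : p ≠ q) (hp : g • p = p) (hq : g • q = q) :
    2 ≤ fc Ω g := by
  haveI : Nontrivial {x : Ω // g • x = x} := ⟨⟨⟨p, hp⟩, ⟨q, hq⟩, fun e => hpq (congrArg Subtype.val e)⟩⟩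
  exact Finite.one_lt_card

theorem three_le_fc {g : G} {p q r : Ω} (hpq : p ≠ q) (hqr : q ≠ r) (hpr : p ≠ r) (hp : g • p = p)
    (hq : g • q = q) (hr : g • r = r) : 3 ≤ fc Ω g := by
  have hf : Function.Injective ![(⟨p, hp⟩ : {x : Ω // g • x = x}), ⟨q, hq⟩, ⟨r, hr⟩] := by
    intro j k h
    fin_cases j <;> fin_cases k <;> simp [hpq, hpq.symm, hqr, hqr.symm, hpr, hpr.symm] at h ⊢
  simpa using Nat.card_le_card_of_injective _ hf

theorem smul_invol {v : G} (hv : orderOf v = 2) (p : Ω) : v • v • p = p := by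
  rw [smul_smul, CfsgLib.Invol.mul_self_of_orderOf_two hv, one_smul]

variable {i : ℕ} {t : G}

theorem Hyp.exists_map (H : Hyp G Ω i t) {a b p q : Ω} (hab : a ≠ b) (hpq : p ≠ q) :
    ∃ g : G, g • a = p ∧ g • b = q :=
  MulAction.is_two_pretransitive_iff.1 H.h2 hab hpq

theorem Hyp.conj_fix (H : Hyp G Ω i t) {v : G} (hv : IsConj t v) :
    orderOf v = 2 ∧ fc Ω v = i ∧ ∀ g : G, Commute g v → g ≠ 1 → fc Ω g = i := by
  obtain ⟨k, rfl⟩ := isConj_iff.1 hv
  refine ⟨by rw [CfsgLib.Invol.orderOf_conj_eq, H.ht], by rw [fc_conj, H.hti], fun g hg hg1 => ?_⟩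
  have h1 : Commute (k⁻¹ * g * k) t := by
    show k⁻¹ * g * k * t = t * (k⁻¹ * g * k)
    calc k⁻¹ * g * k * t = k⁻¹ * (g * (k * t * k⁻¹)) * k := by group
      _ = k⁻¹ * (k * t * k⁻¹ * g) * k := by rw [hg.eq]
      _ = _ := by group
  have h2 := fc_conj (Ω := Ω) k (k⁻¹ * g * k)
  rw [show k * (k⁻¹ * g * k) * k⁻¹ = g by group] at h2
  rw [h2]
  exact H.hC _ h1 fun e => hg1 (by rw [show g = k * (k⁻¹ * g * k) * k⁻¹ by group, e]; group)

theorem Hyp.t_moves (H : Hyp G Ω i t) : ∃ p : Ω, t • p ≠ p := by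
  by_contra h
  push Not at h
  have : t = 1 := eq_of_smul_eq_smul fun x : Ω => by rw [h, one_smul]
  simpa [this] using H.ht

theorem Hyp.i_lt (H : Hyp G Ω i t) : i < Nat.card Ω := by
  obtain ⟨p, hp⟩ := H.t_moves
  rw [← H.hti]
  exact Finite.card_subtype_lt hp

/-- The centraliser is no larger than the moved set. -/
theorem Hyp.card_centralizer_le (H : Hyp G Ω i t) :
    Nat.card (Subgroup.centralizer ({t} : Set G)) + i ≤ Nat.card Ω := by
  classical
  set C := Subgroup.centralizer ({t} : Set G) with hC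
  haveI := Fintype.ofFinite C
  haveI := Fintype.ofFinite (Quotient (MulAction.orbitRel C Ω))
  have h := MulAction.sum_card_fixedBy_eq_card_orbits_mul_card_group C Ω
  have h1 : ∀ y : C, y ≠ 1 → Fintype.card (fixedBy Ω y) = i := fun y hy => by
    rw [← Nat.card_eq_fintype_card]
    exact H.hC (y : G) (Subgroup.mem_centralizer_singleton_iff.1 y.2) fun e => hy (Subtype.ext e)
  rw [← Finset.add_sum_erase _ _ (Finset.mem_univ (1 : C)),
    Finset.sum_congr rfl fun y hy => h1 y (Finset.ne_of_mem_erase hy), Finset.sum_const, smul_eq_mul,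
    Finset.card_erase_of_mem (Finset.mem_univ _), Finset.card_univ] at h
  have h0 : Fintype.card (fixedBy Ω (1 : C)) = Nat.card Ω := by
    rw [Nat.card_eq_fintype_card]
    exact Fintype.card_congr (Equiv.subtypeUnivEquiv fun x => one_smul C x)
  rw [h0] at h
  rw [Nat.card_eq_fintype_card (α := C)]
  have hlt := H.i_lt
  have hc : 0 < Fintype.card C := Fintype.card_pos
  set N := Fintype.card (Quotient (MulAction.orbitRel C Ω))
  have hN : i + 1 ≤ N := by
    by_contra hle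
    have h2 : N * Fintype.card C ≤ i * Fintype.card C := Nat.mul_le_mul_right _ (by omega)
    have h3 : (Fintype.card C - 1) * i + i = i * Fintype.card C := by
      rw [mul_comm i, Nat.sub_one_mul, Nat.sub_add_cancel]
      exact Nat.le_mul_of_pos_left _ hc
    omega
  have h4 : (i + 1) * Fintype.card C ≤ N * Fintype.card C := Nat.mul_le_mul_right _ hN
  have h5 : (Fintype.card C - 1) * i + i = i * Fintype.card C := by
    rw [mul_comm i, Nat.sub_one_mul, Nat.sub_add_cancel]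
    exact Nat.le_mul_of_pos_left _ hc
  rw [add_mul, one_mul] at h4
  omega

/-- The conjugates of `t` sending `p` to `q`. -/
abbrev Swap (t : G) (p q : Ω) := {v : {v : G // IsConj t v} // (v : G) • p = q}

theorem Hyp.swap_back (H : Hyp G Ω i t) {p q : Ω} (v : Swap t p q) : (v.1 : G) • q = p :=
  (congrArg ((v.1 : G) • ·) v.2.symm).trans (smul_invol (H.conj_fix v.1.2).1 p)

theorem Hyp.card_fixed_compl (H : Hyp G Ω i t) {v : G} (hv : IsConj t v) :
    Nat.card {p : Ω // v • p ≠ p} = Nat.card Ω - i := by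
  classical
  rw [Nat.card_eq_fintype_card, Fintype.card_subtype_compl, ← (H.conj_fix hv).2.1,
    Nat.card_eq_fintype_card (α := Ω)]
  exact congrArg _ Nat.card_eq_fintype_card.symm

/-- Multiplication by a fixed exchanging involution. -/
def Hyp.toPair (H : Hyp G Ω i t) {p q : Ω} (v w : Swap t p q) : pairStab G p q :=
  ⟨(v.1 : G) * w.1, mem_stabilizer_iff.2 (by rw [mul_smul, w.2, H.swap_back v]),
    mem_stabilizer_iff.2 (by rw [mul_smul, H.swap_back w, v.2])⟩

theorem Hyp.toPair_injective (H : Hyp G Ω i t) {p q : Ω} (v : Swap t p q) :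
    Function.Injective (H.toPair v) := fun a b h =>
  Subtype.ext (Subtype.ext (mul_left_cancel (congrArg Subtype.val h)))

theorem Hyp.card_swap_le (H : Hyp G Ω i t) (p q : Ω) :
    Nat.card (Swap t p q) ≤ Nat.card (pairStab G p q) := by
  rcases isEmpty_or_nonempty (Swap t p q) with h | ⟨⟨v⟩⟩
  · simp
  exact Nat.card_le_card_of_injective _ (H.toPair_injective v)

theorem Hyp.card_group (H : Hyp G Ω i t) {p q : Ω} (hpq : p ≠ q) [Fintype G]
    [DecidableEq Ω] :
    Nat.card G = ∑ z : {z : Ω × Ω // z.1 ≠ z.2}, Nat.card (pairStab G z.1.1 z.1.2) := by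
  let f : G → {z : Ω × Ω // z.1 ≠ z.2} := fun g =>
    ⟨(g • p, g • q), fun e => hpq (smul_left_cancel g e)⟩
  rw [← Nat.card_congr (Equiv.sigmaFiberEquiv f), Nat.card_sigma]
  refine Finset.sum_congr rfl fun z _ => ?_
  obtain ⟨g, hg1, hg2⟩ := H.exists_map hpq z.2
  refine Nat.card_congr
    { toFun := fun x => ⟨x.1 * g⁻¹, ?_, ?_⟩
      invFun := fun x => ⟨x.1 * g, ?_⟩
      left_inv := fun x => by ext; simp
      right_inv := fun x => by ext; simp }
  · have h : x.1 • p = z.1.1 := congrArg (fun w : {z : Ω × Ω // z.1 ≠ z.2} => w.1.1) x.2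
    exact mem_stabilizer_iff.2 (by rw [mul_smul, ← hg1, inv_smul_smul, h, hg1])
  · have h : x.1 • q = z.1.2 := congrArg (fun w : {z : Ω × Ω // z.1 ≠ z.2} => w.1.2) x.2
    exact mem_stabilizer_iff.2 (by rw [mul_smul, ← hg2, inv_smul_smul, h, hg2])
  · refine Subtype.ext (Prod.ext ?_ ?_)
    · show (x.1 * g) • p = z.1.1
      rw [mul_smul, hg1]; exact x.2.1
    · show (x.1 * g) • q = z.1.2
      rw [mul_smul, hg2]; exact x.2.2

theorem Hyp.card_moved (H : Hyp G Ω i t) [DecidableEq Ω] :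
    Nat.card {v : G // IsConj t v} * (Nat.card Ω - i) =
      ∑ z : {z : Ω × Ω // z.1 ≠ z.2}, Nat.card (Swap t z.1.1 z.1.2) := by
  classical
  haveI := Fintype.ofFinite {v : G // IsConj t v}
  have e : (Σ v : {v : G // IsConj t v}, {x : Ω // (v : G) • x ≠ x}) ≃
      Σ z : {z : Ω × Ω // z.1 ≠ z.2}, Swap t z.1.1 z.1.2 :=
    { toFun := fun s => ⟨⟨(s.2.1, (s.1 : G) • s.2.1), Ne.symm s.2.2⟩, s.1, rfl⟩
      invFun := fun s => ⟨s.2.1, s.1.1.1, fun e => s.1.2 (e.symm.trans s.2.2)⟩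
      left_inv := fun s => rfl
      right_inv := fun ⟨⟨⟨x, y⟩, hxy⟩, ⟨v, hv⟩⟩ => by
        obtain rfl : (v : G) • x = y := hv
        rfl }
  rw [← Nat.card_sigma, ← Nat.card_congr e, Nat.card_sigma,
    Finset.sum_congr rfl fun v _ => H.card_fixed_compl v.2, Finset.sum_const, Finset.card_univ,
    smul_eq_mul, Nat.card_eq_fintype_card]

/-- Every pair is exchanged by as many conjugates of `t` as its stabiliser has elements. -/
theorem Hyp.card_swap (H : Hyp G Ω i t) {p q : Ω} (hpq : p ≠ q) :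
    Nat.card (Swap t p q) = Nat.card (pairStab G p q) := by
  classical
  haveI := Fintype.ofFinite G
  have hle : ∀ z ∈ (Finset.univ : Finset {z : Ω × Ω // z.1 ≠ z.2}),
      Nat.card (Swap t z.1.1 z.1.2) ≤ Nat.card (pairStab G z.1.1 z.1.2) :=
    fun z _ => H.card_swap_le _ _
  refine le_antisymm (H.card_swap_le p q) (not_lt.1 fun hlt => ?_)
  have h1 := Finset.sum_lt_sum hle ⟨⟨(p, q), hpq⟩, Finset.mem_univ _, hlt⟩
  rw [← H.card_group hpq, ← H.card_moved, ← CfsgLib.Invol.card_conjugates_mul t] at h1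
  have h2 := H.card_centralizer_le
  exact absurd h1 (not_lt.2 (Nat.mul_le_mul_left _ (by omega)))

theorem Hyp.card_centralizer (H : Hyp G Ω i t) {p q : Ω} (hpq : p ≠ q) :
    Nat.card (Subgroup.centralizer ({t} : Set G)) + i = Nat.card Ω := by
  classical
  haveI := Fintype.ofFinite G
  have h := H.card_moved
  rw [Finset.sum_congr rfl fun z _ => H.card_swap z.2, ← H.card_group hpq,
    ← CfsgLib.Invol.card_conjugates_mul t] at h
  haveI : Nonempty {v : G // IsConj t v} := ⟨⟨t, IsConj.refl t⟩⟩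
  have h1 := Nat.eq_of_mul_eq_mul_left Nat.card_pos h
  have h2 := H.i_lt
  omega

theorem Hyp.exists_swap (H : Hyp G Ω i t) {p q : Ω} (hpq : p ≠ q) : Nonempty (Swap t p q) :=
  (Nat.card_pos_iff.1 (by rw [H.card_swap hpq]; exact Nat.card_pos)).1

theorem Hyp.mem_of_coset (H : Hyp G Ω i t) {p q : Ω} (hpq : p ≠ q) (v : Swap t p q) {d : G}
    (hd : d ∈ pairStab G p q) : IsConj t ((v.1 : G) * d) := by
  obtain ⟨w, hw⟩ := ((H.toPair_injective v).bijective_of_nat_card_le
    (H.card_swap hpq).ge).2 ⟨d, hd⟩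
  have h : (v.1 : G) * w.1 = d := congrArg Subtype.val hw
  rw [← h, ← mul_assoc, CfsgLib.Invol.mul_self_of_orderOf_two (H.conj_fix v.1.2).1, one_mul]
  exact w.1.2

theorem Hyp.inverts (H : Hyp G Ω i t) {p q : Ω} (hpq : p ≠ q) (v : Swap t p q) {d : G}
    (hd : d ∈ pairStab G p q) : (v.1 : G) * d * (v.1 : G)⁻¹ = d⁻¹ := by
  have h := CfsgLib.Invol.mul_self_of_orderOf_two (H.conj_fix (H.mem_of_coset hpq v hd)).1
  rw [CfsgLib.Invol.inv_eq_of_orderOf_two (H.conj_fix v.1.2).1]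
  refine eq_inv_of_mul_eq_one_left ?_
  rw [mul_assoc ((v.1 : G) * d)]
  exact h

theorem Hyp.pair_comm (H : Hyp G Ω i t) {p q : Ω} (hpq : p ≠ q) {c d : G} (hc : c ∈ pairStab G p q)
    (hd : d ∈ pairStab G p q) : c * d = d * c := by
  obtain ⟨v⟩ := H.exists_swap hpq
  have h := H.inverts hpq v ((pairStab G p q).mul_mem hc hd)
  rw [show (v.1 : G) * (c * d) * (v.1 : G)⁻¹ =
      ((v.1 : G) * c * (v.1 : G)⁻¹) * ((v.1 : G) * d * (v.1 : G)⁻¹) by group,
    H.inverts hpq v hc, H.inverts hpq v hd, mul_inv_rev] at h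
  have := congrArg (·⁻¹) h
  simpa using this.symm

/-- All involutions are conjugate. -/
theorem Hyp.invol_conj (H : Hyp G Ω i t) {v : G} (hv : orderOf v = 2) : IsConj t v := by
  obtain ⟨p, hp⟩ : ∃ p : Ω, v • p ≠ p := by
    by_contra h
    push Not at h
    have : v = 1 := eq_of_smul_eq_smul fun x : Ω => by rw [h, one_smul]
    simp [this] at hv
  obtain ⟨u⟩ := H.exists_swap hp.symm
  have hmem : (u.1 : G) * v ∈ pairStab G p (v • p) :=
    ⟨mem_stabilizer_iff.2 (by rw [mul_smul, H.swap_back u]),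
      mem_stabilizer_iff.2 (by rw [mul_smul, smul_invol hv, u.2])⟩
  have h := H.mem_of_coset hp.symm u hmem
  rwa [← mul_assoc, CfsgLib.Invol.mul_self_of_orderOf_two (H.conj_fix u.1.2).1, one_mul] at h

theorem Hyp.invol (H : Hyp G Ω i t) {v : G} (hv : orderOf v = 2) :
    fc Ω v = i ∧ ∀ g : G, Commute g v → g ≠ 1 → fc Ω g = i :=
  (H.conj_fix (H.invol_conj hv)).2

theorem Hyp.base (H : Hyp G Ω i t) {v : G} (hv : orderOf v = 2) : Hyp G Ω i v :=
  ⟨H.h2, hv, (H.invol hv).1, (H.invol hv).2⟩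

/-- With at most one fixed point the pair stabilisers are odd. -/
theorem Hyp.odd_pair (H : Hyp G Ω i t) (hi : i < 2) {p q : Ω} (hpq : p ≠ q) :
    Odd (Nat.card (pairStab G p q)) := by
  rw [← Nat.not_even_iff_odd, even_iff_two_dvd]
  intro h
  haveI : Fact (Nat.Prime 2) := ⟨Nat.prime_two⟩
  obtain ⟨x, hx⟩ := exists_prime_orderOf_dvd_card' (G := pairStab G p q) 2 h
  rw [← Subgroup.orderOf_coe] at hx
  have := two_le_fc hpq (mem_stabilizer_iff.1 x.2.1) (mem_stabilizer_iff.1 x.2.2)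
  rw [(H.invol hx).1] at this
  omega

/-- With at least two fixed points every element of a pair stabiliser fixes exactly `i` points. -/
theorem Hyp.fc_pair (H : Hyp G Ω i t) (hi : 2 ≤ i) {p q : Ω} (hpq : p ≠ q) :
    ∃ v ∈ pairStab G p q, orderOf v = 2 ∧ ∀ g ∈ pairStab G p q, g ≠ 1 → fc Ω g = i := by
  have h2 : 2 ≤ fc Ω t := H.hti ▸ hi
  haveI : Nontrivial {x : Ω // t • x = x} := Finite.one_lt_card_iff_nontrivial.1 h2
  obtain ⟨⟨a, ha⟩, ⟨b, hb⟩, hab⟩ := exists_pair_ne {x : Ω // t • x = x}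
  obtain ⟨g, hga, hgb⟩ := H.exists_map (fun e => hab (Subtype.ext e)) hpq
  have hv : orderOf (g * t * g⁻¹) = 2 := by rw [CfsgLib.Invol.orderOf_conj_eq, H.ht]
  have hmem : g * t * g⁻¹ ∈ pairStab G p q :=
    ⟨mem_stabilizer_iff.2 (by rw [mul_smul, mul_smul, ← hga, inv_smul_smul, ha]),
      mem_stabilizer_iff.2 (by rw [mul_smul, mul_smul, ← hgb, inv_smul_smul, hb])⟩
  exact ⟨_, hmem, hv, fun x hx hx1 => (H.invol hv).2 x (H.pair_comm hpq hx hmem) hx1⟩

end CfsgLib.ConstFix
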