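/-
Doubly transitive groups with an involution whose centraliser has constant fixity: the cases.
-/
import Cfsg.Agent.Lib.ConstFix.Basic
import Cfsg.Agent.Lib.SuzukiUniq.Classification
import Cfsg.Agent.Lib.Invol.ZStarFinal
import Cfsg.Agent.Lib.Invol.ZStarCor
import Cfsg.Agent.Lib.PGroup.CAI.Recognise
import Cfsg.Agent.Lib.ThreeTransp.Solv
import Cfsg.Agent.S0205
import Cfsg.Agent.S0338
import Cfsg.Agent.S0680

set_option autoImplicit false
set_option linter.unusedSectionVars false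

namespace CfsgLib.ConstFix

open MulAction

variable {G Ω : Type*} [Group G] [Finite G] [Fintype Ω] [MulAction G Ω] [FaithfulSMul G Ω]

/-- A regular normal subgroup exists. -/
def HasRNS (G Ω : Type*) [Group G] [MulAction G Ω] : Prop :=
  ∃ R : Subgroup G, R.Normal ∧ (∀ x y : Ω, ∃ r ∈ R, r • x = y) ∧ ∀ x : Ω, ∀ r ∈ R, r • x = x → r = 1

/-- The first two alternatives of the conclusion. -/
def Concl (G : Type*) [Group G] : Prop :=
  (∃ (F : Type) (_ : Field F) (_ : Fintype F),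
      Nonempty (G ≃* Matrix.ProjectiveSpecialLinearGroup (Fin 2) F)) ∨ Cfsg.Lie.IsoSuzuki G

theorem transitive_normal (h2 : MulAction.IsMultiplyPretransitive G Ω 2) {N : Subgroup G} [N.Normal]
    (hN : N ≠ ⊥) (c d : Ω) : ∃ n ∈ N, n • c = d :=
  CfsgLib.Suzuki.ZassenhausNormal.transitive_of_normal inferInstance h2 N hN c d

theorem rns_of_abelian_normal (h2 : MulAction.IsMultiplyPretransitive G Ω 2) {N : Subgroup G}
    [hn : N.Normal] (hN : N ≠ ⊥) (hc : ∀ a ∈ N, ∀ b ∈ N, a * b = b * a) : HasRNS G Ω := by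
  refine ⟨N, hn, transitive_normal h2 hN, fun x r hr hrx => ?_⟩
  refine eq_of_smul_eq_smul fun y : Ω => ?_
  obtain ⟨m, hm, rfl⟩ := transitive_normal h2 hN x y
  rw [one_smul, smul_smul, hc r hr m hm, mul_smul, hrx]

theorem rns_of_solvable_normal (h2 : MulAction.IsMultiplyPretransitive G Ω 2) {N : Subgroup G}
    (hn : N.Normal) (hN : N ≠ ⊥) (hs : Group.IsSolvable N) : HasRNS G Ω := by
  obtain ⟨A, -, hA⟩ := exists_minimal_le_of_wellFoundedLT
    (fun K : Subgroup G => K.Normal ∧ Group.IsSolvable K ∧ K ≠ ⊥) N ⟨hn, hs, hN⟩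
  obtain ⟨hAn, hAs, hA0⟩ := hA.1
  haveI := hAn
  have hle : ⁅A, A⁆ ≤ A := Subgroup.commutator_le_left A A
  have habel : ⁅A, A⁆ = ⊥ := by
    by_contra hc
    haveI := hAs
    haveI : Nontrivial A := (Subgroup.nontrivial_iff_ne_bot A).2 hA0
    have hlt := (Group.isSolvable_iff_commutator_lt.1 hAs) ⊤ top_ne_bot
    have hsol : Group.IsSolvable (⁅A, A⁆ : Subgroup G) :=
      CfsgLib.ThreeTransp.isSolvable_mono hle hAs
    have heq : A ≤ ⁅A, A⁆ := hA.2 ⟨inferInstance, hsol, hc⟩ hle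
    apply hlt.ne
    rw [eq_top_iff]
    intro a _
    have ha : (a : G) ∈ (commutator A).map A.subtype := by
      rw [Subgroup.map_subtype_commutator]
      exact heq a.2
    obtain ⟨b, hb, hba⟩ := ha
    obtain rfl : b = a := Subtype.ext hba
    rwa [← commutator_def]
  refine rns_of_abelian_normal h2 hA0 fun a ha b hb => ?_
  have h := Subgroup.commutator_mem_commutator ha hb
  rw [habel, Subgroup.mem_bot, commutatorElement_def, mul_inv_eq_one, mul_inv_eq_iff_eq_mul] at h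
  exact h

/-- Sharply doubly transitive groups have a regular normal subgroup. -/
theorem rns_of_sharp (h2 : MulAction.IsMultiplyPretransitive G Ω 2) (h2' : 2 ≤ Nat.card Ω)
    (hsharp : ∀ p q : Ω, p ≠ q → pairStab G p q = ⊥) : HasRNS G Ω := by
  classical
  let φ : G →* Equiv.Perm Ω := MulAction.toPermHom G Ω
  have hinj : Function.Injective φ := MulAction.toPerm_injective
  have hsm : ∀ (g : G) (z : Ω), φ.rangeRestrict g • z = g • z := fun g z => rfl
  haveI := h2
  haveI : MulAction.IsMultiplyPretransitive φ.range Ω 2 := by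
    refine ⟨fun x y => ?_⟩
    obtain ⟨g, hg⟩ := MulAction.exists_smul_eq G x y
    exact ⟨φ.rangeRestrict g, DFunLike.ext _ _ fun i => DFunLike.congr_fun hg i⟩
  obtain ⟨p, j, hp, -, -, hall⟩ := Cfsg.Agent.S0680.result φ.range (fun x => by
    rw [Subgroup.eq_bot_iff_forall]
    rintro ⟨-, g, rfl⟩ hg
    have hg' : ∀ i, g • x i = x i := fun i => DFunLike.congr_fun (mem_stabilizer_iff.1 hg) i
    have h1 : g ∈ pairStab G (x 0) (x 1) :=
      ⟨mem_stabilizer_iff.2 (hg' 0), mem_stabilizer_iff.2 (hg' 1)⟩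
    rw [hsharp _ _ fun e => absurd (x.injective e) (by decide), Subgroup.mem_bot] at h1
    subst h1
    exact Subtype.ext (map_one φ)) (by rwa [← Nat.card_eq_fintype_card])
  haveI : Fact p.Prime := ⟨hp⟩
  obtain ⟨P⟩ : Nonempty (Sylow p φ.range) := inferInstance
  obtain ⟨hPn, -, -, hPt, hPs, -⟩ := hall ⟨hp⟩ P
  refine ⟨(P : Subgroup φ.range).comap φ.rangeRestrict, hPn.comap _, fun x y => ?_, fun x r hr hrx => ?_⟩
  · haveI := hPt
    obtain ⟨⟨m, hm⟩, hmx⟩ := MulAction.exists_smul_eq (P : Subgroup φ.range) x y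
    obtain ⟨g, rfl⟩ := φ.rangeRestrict_surjective m
    exact ⟨g, hm, (hsm g x).symm.trans hmx⟩
  · have h : (⟨φ.rangeRestrict r, hr⟩ : (P : Subgroup φ.range)) ∈
        stabilizer (P : Subgroup φ.range) x := mem_stabilizer_iff.2 ((hsm r x).trans hrx)
    rw [hPs, Subgroup.mem_bot] at h
    have h' : φ.rangeRestrict r = 1 := congrArg Subtype.val h
    have h'' : φ r = 1 := congrArg Subtype.val h'
    exact hinj (h''.trans (map_one φ).symm)

theorem even_card_of_involution {α : Type*} [DecidableEq α] (s : Finset α) (f : α → α)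
    (hf : ∀ x ∈ s, f x ∈ s) (hff : ∀ x ∈ s, f (f x) = x) (hne : ∀ x ∈ s, f x ≠ x) : Even s.card := by
  have h : ∑ _x ∈ s, (1 : ZMod 2) = 0 :=
    Finset.sum_involution (fun x _ => f x) (fun _ _ => by decide) (fun x hx _ => hne x hx) hf hff
  rw [Finset.sum_const, nsmul_eq_mul, mul_one, ZMod.natCast_eq_zero_iff_even] at h
  exact h

theorem conj_inv_of_inverts {v x : G} (hv : v * x * v⁻¹ = x⁻¹) : v * x⁻¹ * v⁻¹ = x := by
  calc v * x⁻¹ * v⁻¹ = (v * x * v⁻¹)⁻¹ := by group
    _ = x := by rw [hv, inv_inv]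

theorem commute_of_inverts {v w x : G} (hv : v * x * v⁻¹ = x⁻¹) (hw : w * x * w⁻¹ = x⁻¹) :
    v * w * x = x * (v * w) := by
  calc v * w * x = v * (w * x * w⁻¹) * w := by group
    _ = (v * x⁻¹ * v⁻¹) * (v * w) := by rw [hw]; group
    _ = _ := by rw [conj_inv_of_inverts hv]

variable {i : ℕ} {t : G}

/-- A doubly transitive group of even degree with all involutions conjugate is simple, provided
the pair stabilisers are non-trivial and their non-identity elements fix exactly two points. -/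
theorem Hyp.simple_of_even (H : Hyp G Ω i t) (heven : Even (Nat.card Ω))
    {a₀ b₀ : Ω} (hab₀ : a₀ ≠ b₀) (hD : pairStab G a₀ b₀ ≠ ⊥)
    (h3 : ∀ g : G, ∀ a b c : Ω, a ≠ b → b ≠ c → a ≠ c → g • a = a → g • b = b → g • c = c → g = 1) :
    IsSimpleGroup G := by
  classical
  haveI : Nontrivial G := ⟨⟨t, 1, fun e => by simpa [e] using H.ht⟩⟩
  haveI : Fact (Nat.Prime 2) := ⟨Nat.prime_two⟩
  refine ⟨fun N hN => or_iff_not_imp_left.2 fun hN0 => ?_⟩
  haveI := hN
  have htr := fun c d => transitive_normal H.h2 (N := N) hN0 c d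
  -- an involution in `N`, hence all of them
  haveI : MulAction.IsPretransitive N Ω := ⟨fun c d => by
    obtain ⟨n, hn, h⟩ := htr c d
    exact ⟨⟨n, hn⟩, h⟩⟩
  obtain ⟨w, hw⟩ := exists_prime_orderOf_dvd_card' (G := N) 2 (by
    have h := (stabilizer N a₀).index_mul_card
    rw [MulAction.index_stabilizer_of_transitive] at h
    exact h ▸ Dvd.dvd.mul_right (even_iff_two_dvd.1 heven) _)
  rw [← Subgroup.orderOf_coe] at hw
  have hinv : ∀ v : G, IsConj t v → v ∈ N := fun v hv => by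
    obtain ⟨g, hg⟩ := isConj_iff.1 ((H.invol_conj hw).symm.trans hv)
    rw [← hg]
    exact hN.conj_mem _ w.2 g
  have hpair : ∀ p q : Ω, p ≠ q → pairStab G p q ≤ N := fun p q hpq d hd => by
    obtain ⟨u⟩ := H.exists_swap hpq
    have h := N.mul_mem (N.inv_mem (hinv _ u.1.2)) (hinv _ (H.mem_of_coset hpq u hd))
    rwa [inv_mul_cancel_left] at h
  -- `N` is doubly transitive
  obtain ⟨x₀, hx₀⟩ := (Subgroup.ne_bot_iff_exists_ne_one.1 hD)
  haveI : Nontrivial (pairStab G a₀ b₀) := ⟨⟨x₀, 1, hx₀⟩⟩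
  obtain ⟨r, hr, hrd⟩ := Nat.exists_prime_and_dvd (Finite.one_lt_card (α := pairStab G a₀ b₀)).ne'
  haveI : Fact r.Prime := ⟨hr⟩
  obtain ⟨z, hz⟩ := exists_prime_orderOf_dvd_card' (G := pairStab G a₀ b₀) r hrd
  rw [← Subgroup.orderOf_coe] at hz
  let Na : Subgroup G := N ⊓ stabilizer G a₀
  have helt : ∀ c : Ω, c ≠ a₀ → ∃ y : Na, orderOf y = r ∧
      ∀ p : Ω, (y : G) • p = p ↔ (p = a₀ ∨ p = c) := by
    intro c hc
    obtain ⟨g, hga, hgb⟩ := H.exists_map hab₀ (Ne.symm hc)
    have hy : g * z * g⁻¹ ∈ pairStab G a₀ c :=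
      ⟨mem_stabilizer_iff.2 (by rw [mul_smul, mul_smul, inv_smul_eq_iff.2 hga.symm,
          mem_stabilizer_iff.1 z.2.1, hga]),
        mem_stabilizer_iff.2 (by rw [mul_smul, mul_smul, inv_smul_eq_iff.2 hgb.symm,
          mem_stabilizer_iff.1 z.2.2, hgb])⟩
    refine ⟨⟨g * z * g⁻¹, hpair _ _ (Ne.symm hc) hy, hy.1⟩, ?_, fun p => ⟨fun hp => ?_, ?_⟩⟩
    · rw [← Subgroup.orderOf_coe, CfsgLib.Invol.orderOf_conj_eq, hz]
    · by_contra hne
      push Not at hne
      have h1 := h3 _ a₀ c p (Ne.symm hc) (Ne.symm hne.2) (Ne.symm hne.1) (mem_stabilizer_iff.1 hy.1)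
        (mem_stabilizer_iff.1 hy.2) hp
      have h2 := (CfsgLib.Invol.orderOf_conj_eq g (z : G)).trans hz
      rw [h1, orderOf_one] at h2
      exact hr.one_lt.ne h2
    · rintro (rfl | rfl)
      exacts [mem_stabilizer_iff.1 hy.1, mem_stabilizer_iff.1 hy.2]
  have horb : ∀ c : Ω, c ≠ a₀ → c ∈ MulAction.orbit Na b₀ := by
    intro c hc
    by_contra hcO
    have hmod : ∀ y : Na, orderOf y = r → Nat.card (MulAction.orbit Na b₀) ≡
        Nat.card (fixedPoints (Subgroup.zpowers y) (MulAction.orbit Na b₀)) [MOD r] := fun y hy =>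
      (IsPGroup.of_card (n := 1) (by rw [Nat.card_zpowers, hy, pow_one])).card_modEq_card_fixedPoints _
    have hfix : ∀ (y : Na) (q : MulAction.orbit Na b₀),
        q ∈ fixedPoints (Subgroup.zpowers y) (MulAction.orbit Na b₀) ↔ (y : G) • (q : Ω) = q := by
      intro y q
      constructor
      · intro h
        exact congrArg Subtype.val (h ⟨y, Subgroup.mem_zpowers y⟩)
      · rintro h ⟨_, k, rfl⟩
        have h' : y ∈ stabilizer Na q := mem_stabilizer_iff.2 (Subtype.ext h)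
        exact mem_stabilizer_iff.1 ((stabilizer Na q).zpow_mem h' k)
    have hne : ∀ q : MulAction.orbit Na b₀, (q : Ω) ≠ a₀ := by
      rintro ⟨_, m, rfl⟩ he
      exact hab₀ (smul_left_cancel (m : G) ((mem_stabilizer_iff.1 m.2.2).trans he.symm))
    obtain ⟨y, hy, hyf⟩ := helt b₀ hab₀.symm
    obtain ⟨y', hy', hy'f⟩ := helt c hc
    have e1 : Nat.card (fixedPoints (Subgroup.zpowers y) (MulAction.orbit Na b₀)) = 1 := by
      rw [Nat.card_eq_one_iff_exists]
      refine ⟨⟨⟨b₀, MulAction.mem_orbit_self b₀⟩, (hfix _ _).2 ((hyf _).2 (Or.inr rfl))⟩, ?_⟩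
      rintro ⟨q, hq⟩
      exact Subtype.ext (Subtype.ext (((hyf _).1 ((hfix _ _).1 hq)).resolve_left (hne q)))
    have e2 : Nat.card (fixedPoints (Subgroup.zpowers y') (MulAction.orbit Na b₀)) = 0 := by
      haveI : IsEmpty (fixedPoints (Subgroup.zpowers y') (MulAction.orbit Na b₀)) := by
        refine ⟨fun q => ?_⟩
        rcases (hy'f _).1 ((hfix _ _).1 q.2) with h | h
        · exact hne _ h
        · exact hcO (h ▸ q.1.2)
      exact Nat.card_of_isEmpty
    have h := (hmod y hy).symm.trans (hmod y' hy')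
    rw [e1, e2, Nat.modEq_zero_iff_dvd, Nat.dvd_one] at h
    exact hr.one_lt.ne' h
  refine (Subgroup.eq_top_iff' N).2 fun g => ?_
  obtain ⟨m, hm, hma⟩ := htr a₀ (g • a₀)
  have ha : m⁻¹ • g • a₀ = a₀ := inv_smul_eq_iff.2 hma.symm
  obtain ⟨k, hk⟩ := horb (m⁻¹ • g • b₀) fun e => hab₀ (smul_left_cancel g
    (smul_left_cancel m⁻¹ (e.trans ha.symm))).symm
  have hk' : (k : G) • b₀ = m⁻¹ • g • b₀ := hk
  have hd : (k : G)⁻¹ * (m⁻¹ * g) ∈ pairStab G a₀ b₀ :=
    ⟨mem_stabilizer_iff.2 (by rw [mul_smul, mul_smul, ha, inv_smul_eq_iff, mem_stabilizer_iff.1 k.2.2]),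
      mem_stabilizer_iff.2 (by rw [mul_smul, mul_smul, ← hk', inv_smul_smul])⟩
  have h := N.mul_mem hm (N.mul_mem k.2.1 (hpair _ _ hab₀ hd))
  rwa [mul_inv_cancel_left, mul_inv_cancel_left] at h

/-- The conclusion when only two points are fixed by elements of pair stabilisers. -/
theorem Hyp.of_three (H : Hyp G Ω i t) (hrns : ¬ HasRNS G Ω)
    (h3 : ∀ g : G, ∀ a b c : Ω, a ≠ b → b ≠ c → a ≠ c → g • a = a → g • b = b → g • c = c → g = 1) :
    Concl G := by
  classical
  obtain ⟨p, hp⟩ := H.t_moves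
  by_cases hD : ∀ a b : Ω, a ≠ b → pairStab G a b = ⊥
  · haveI : Nontrivial Ω := ⟨⟨_, _, hp⟩⟩
    exact absurd (rns_of_sharp H.h2 Finite.one_lt_card hD) hrns
  push Not at hD
  obtain ⟨a, b, hab, hD⟩ := hD
  obtain ⟨⟨g, hg⟩, hg1⟩ := Subgroup.ne_bot_iff_exists_ne_one.1 hD
  have hZ : Cfsg.IsZassenhausGroup G Ω :=
    ⟨inferInstance, H.h2, h3, ⟨g, fun e => hg1 (Subtype.ext e), a, b, hab,
      mem_stabilizer_iff.1 hg.1, mem_stabilizer_iff.1 hg.2⟩, fun N hN hNt => by
      by_contra hno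
      push Not at hno
      refine hrns ⟨N, hN, fun x y => ?_, fun x r hr hrx => ?_⟩
      · obtain ⟨m, hm⟩ := hNt.exists_smul_eq x y
        exact ⟨m, m.2, hm⟩
      · have h : (⟨r, hr⟩ : N) ∈ stabilizer N x := mem_stabilizer_iff.2 hrx
        rw [hno, Subgroup.mem_bot] at h
        exact congrArg Subtype.val h⟩
  haveI : IsSimpleGroup G := by
    rcases Nat.even_or_odd (Nat.card Ω) with he | ho
    · exact H.simple_of_even he hab hD h3
    · exact Cfsg.Agent.S0338.result hZ (by rwa [← Nat.card_eq_fintype_card])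
  exact CfsgLib.SuzukiUniq.simple_zassenhaus hZ

theorem Hyp.odd_centralizer (H : Hyp G Ω i t) (hi : i < 2) {a b : Ω} (hab : a ≠ b) {x : G}
    (hx : x ∈ pairStab G a b) (hx1 : x ≠ 1) :
    Odd (Nat.card (Subgroup.centralizer ({x} : Set G))) := by
  rw [← Nat.not_even_iff_odd, even_iff_two_dvd]
  intro h
  haveI : Fact (Nat.Prime 2) := ⟨Nat.prime_two⟩
  obtain ⟨w, hw⟩ := exists_prime_orderOf_dvd_card' (G := Subgroup.centralizer ({x} : Set G)) 2 h
  rw [← Subgroup.orderOf_coe] at hw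
  have h1 := (H.invol hw).2 x (Subgroup.mem_centralizer_singleton_iff.1 w.2).symm hx1
  have h2 := two_le_fc hab (mem_stabilizer_iff.1 hx.1) (mem_stabilizer_iff.1 hx.2)
  omega

/-- For an element fixing three points, some exchanging involution has a fixed point in the orbit
of its centraliser, and so some involution fixing one of them inverts it. -/
theorem Hyp.exists_inverting_fix (H : Hyp G Ω i t) (hi : i < 2) {a b c : Ω} (hab : a ≠ b)
    (hbc : b ≠ c) (hac : a ≠ c) {x : G} (hxa : x • a = a) (hxb : x • b = b) (hxc : x • c = c)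
    (hx1 : x ≠ 1) : ∃ v : G, orderOf v = 2 ∧ v • a = a ∧ v * x * v⁻¹ = x⁻¹ := by
  classical
  have mk : ∀ {p q : Ω}, x • p = p → x • q = q → x ∈ pairStab G p q := fun hp hq =>
    ⟨mem_stabilizer_iff.2 hp, mem_stabilizer_iff.2 hq⟩
  obtain ⟨u⟩ := H.exists_swap hab
  obtain ⟨v⟩ := H.exists_swap hbc
  obtain ⟨w⟩ := H.exists_swap hac
  set C := Subgroup.centralizer ({x} : Set G) with hC
  have hu := H.inverts hab u (mk hxa hxb)
  have hv := H.inverts hbc v (mk hxb hxc)
  have hw := H.inverts hac w (mk hxa hxc)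
  have hvw : (v.1 : G) * w.1 ∈ C :=
    Subgroup.mem_centralizer_singleton_iff.2 (commute_of_inverts hv hw)
  let O : Finset Ω := Finset.univ.filter fun z => z ∈ MulAction.orbit C a
  have hbO : ∃ y ∈ C, y • a = b := ⟨_, hvw, by rw [mul_smul, w.2, H.swap_back v]⟩
  have huu := H.conj_fix u.1.2
  have hconj : ∀ y ∈ C, (u.1 : G) * y * (u.1 : G)⁻¹ ∈ C := by
    intro y hy
    rw [Subgroup.mem_centralizer_singleton_iff] at hy ⊢
    have hx' : (u.1 : G) * x⁻¹ * (u.1 : G)⁻¹ = x := conj_inv_of_inverts hu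
    have hy' : y * x⁻¹ = x⁻¹ * y := (Commute.inv_right hy).eq
    calc (u.1 : G) * y * (u.1 : G)⁻¹ * x
          = (u.1 : G) * y * (u.1 : G)⁻¹ * ((u.1 : G) * x⁻¹ * (u.1 : G)⁻¹) := by rw [hx']
      _ = (u.1 : G) * (y * x⁻¹) * (u.1 : G)⁻¹ := by group
      _ = (u.1 : G) * (x⁻¹ * y) * (u.1 : G)⁻¹ := by rw [hy']
      _ = ((u.1 : G) * x⁻¹ * (u.1 : G)⁻¹) * ((u.1 : G) * y * (u.1 : G)⁻¹) := by group
      _ = _ := by rw [hx']
  have hmaps : ∀ z ∈ O, (u.1 : G) • z ∈ O := by
    intro z hz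
    obtain ⟨⟨y, hy⟩, rfl⟩ := (Finset.mem_filter.1 hz).2
    obtain ⟨y', hy', hya⟩ := hbO
    refine Finset.mem_filter.2 ⟨Finset.mem_univ _, ⟨_, C.mul_mem (hconj y hy) hy'⟩, ?_⟩
    show ((u.1 : G) * y * (u.1 : G)⁻¹ * y') • a = (u.1 : G) • y • a
    rw [mul_smul, hya, mul_smul, mul_smul, inv_smul_eq_iff.2 u.2.symm]
  have hodd : Odd O.card := by
    have h2 : O.card = Nat.card (MulAction.orbit C a) := by
      rw [Nat.card_eq_fintype_card, Fintype.card_subtype]
    have h3 : Nat.card (MulAction.orbit C a) ∣ Nat.card C := by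
      rw [← (stabilizer C a).index_mul_card, MulAction.index_stabilizer,
        Nat.card_coe_set_eq]
      exact dvd_mul_right _ _
    rw [h2]
    exact (H.odd_centralizer hi hab (mk hxa hxb) hx1).of_dvd_nat h3
  obtain ⟨z, hz, hzu⟩ : ∃ z ∈ O, (u.1 : G) • z = z := by
    by_contra hno
    push Not at hno
    exact Nat.not_even_iff_odd.2 hodd (even_card_of_involution O ((u.1 : G) • ·) hmaps
      (fun z _ => smul_invol huu.1 z) hno)
  obtain ⟨⟨y, hy⟩, rfl⟩ := (Finset.mem_filter.1 hz).2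
  refine ⟨y⁻¹ * u.1 * y, ?_, ?_, ?_⟩
  · simpa [huu.1] using CfsgLib.Invol.orderOf_conj_eq y⁻¹ (u.1 : G)
  · have h : (u.1 : G) • y • a = y • a := hzu
    rw [mul_smul, mul_smul, h, inv_smul_smul]
  · have hy' : y * x * y⁻¹ = x := by
      rw [Subgroup.mem_centralizer_singleton_iff.1 hy]; group
    rw [show y⁻¹ * u.1 * y * x * (y⁻¹ * u.1 * y)⁻¹ =
      y⁻¹ * ((u.1 : G) * (y * x * y⁻¹) * (u.1 : G)⁻¹) * y by group, hy', hu]
    rw [← inv_inj]
    calc (y⁻¹ * x⁻¹ * y)⁻¹ = y⁻¹ * x * y := by group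
      _ = y⁻¹ * (y * x * y⁻¹) * y := by rw [hy']
      _ = _ := by group

/-- No fixed points: pair stabilisers fix only two points. -/
theorem Hyp.three_zero (H : Hyp G Ω i t) (hi : i = 0) :
    ∀ g : G, ∀ a b c : Ω, a ≠ b → b ≠ c → a ≠ c → g • a = a → g • b = b → g • c = c → g = 1 := by
  intro g a b c hab hbc hac ha hb hc
  by_contra hg
  obtain ⟨v, hv, hva, -⟩ := H.exists_inverting_fix (by omega) hab hbc hac ha hb hc hg
  haveI : Nonempty {x : Ω // v • x = x} := ⟨⟨a, hva⟩⟩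
  have h : 0 < fc Ω v := Nat.card_pos
  rw [(H.invol hv).1] at h
  omega

/-- One fixed point: pair stabilisers fix only two points unless there is a regular normal
subgroup. -/
theorem Hyp.three_one (H : Hyp G Ω i t) (hi : i = 1) (hrns : ¬ HasRNS G Ω) :
    ∀ g : G, ∀ a b c : Ω, a ≠ b → b ≠ c → a ≠ c → g • a = a → g • b = b → g • c = c → g = 1 := by
  classical
  intro x a b c hab hbc hac ha hb hc
  by_contra hx
  obtain ⟨r, hr, hra, hrx⟩ := H.exists_inverting_fix (by omega) hab hbc hac ha hb hc hx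
  have hxD : x ∈ pairStab G a b := ⟨mem_stabilizer_iff.2 ha, mem_stabilizer_iff.2 hb⟩
  have huniq : ∀ v : G, orderOf v = 2 → ∀ p q : Ω, v • p = p → v • q = q → p = q := by
    intro v hv p q hp hq
    by_contra hne
    have := two_le_fc hne hp hq
    rw [(H.invol hv).1, hi] at this
    omega
  have hcomm_fix : ∀ v y : G, orderOf v = 2 → Commute y v → ∀ p : Ω, v • p = p → y • p = p := by
    intro v y hv hy p hp
    refine huniq v hv _ _ ?_ hp
    rw [← mul_smul, ← hy.eq, mul_smul, hp]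
  -- the centraliser of `r` is regular off `a`
  have hreg : ∀ p : Ω, p ≠ a → ∃ y : G, Commute y r ∧ y • b = p := by
    let C := Subgroup.centralizer ({r} : Set G)
    have hCa : ∀ y : C, (y : G) • a = a := fun y =>
      hcomm_fix r _ hr (Subgroup.mem_centralizer_singleton_iff.1 y.2) a hra
    let f : C → {p : Ω // p ≠ a} := fun y => ⟨(y : G) • b, fun e =>
      hab.symm (smul_left_cancel (y : G) (e.trans (hCa y).symm))⟩
    have hf : Function.Injective f := by
      intro y z h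
      have h' : (y : G) • b = (z : G) • b := congrArg Subtype.val h
      by_contra hne
      have hne' : (z : G)⁻¹ * y ≠ 1 := fun e => hne (Subtype.ext (inv_mul_eq_one.1 e).symm)
      have h1 := two_le_fc (g := (z : G)⁻¹ * y) hab
        (by rw [mul_smul, hCa, inv_smul_eq_iff, hCa]) (by rw [mul_smul, h', inv_smul_smul])
      have h2 := (H.invol hr).2 _ (Subgroup.mem_centralizer_singleton_iff.1
        (C.mul_mem (C.inv_mem z.2) y.2)) hne'
      omega
    intro p hp
    obtain ⟨y, hy⟩ := (hf.bijective_of_nat_card_le (by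
      have h1 : Nat.card C + i = Nat.card Ω := (H.base hr).card_centralizer hab
      rw [Nat.card_eq_fintype_card (α := {p : Ω // p ≠ a}), Fintype.card_subtype_compl,
        Fintype.card_subtype_eq, ← Nat.card_eq_fintype_card]
      omega)).2 ⟨p, hp⟩
    exact ⟨y, Subgroup.mem_centralizer_singleton_iff.1 y.2, congrArg Subtype.val hy⟩
  -- all involutions fixing `a` invert `x`
  have hall : ∀ s : G, orderOf s = 2 → s • a = a → s * x * s⁻¹ = x⁻¹ := by
    intro s hs hsa
    obtain ⟨k, hk⟩ := isConj_iff.1 ((H.invol_conj hr).symm.trans (H.invol_conj hs))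
    have hka : k • a = a := huniq s hs _ _ (by
      rw [← hk, mul_smul, mul_smul, inv_smul_smul, hra]) hsa
    have hne : k⁻¹ • b ≠ a := fun e => hab (by rw [inv_smul_eq_iff, hka] at e; exact e.symm)
    obtain ⟨y, hy, hyb⟩ := hreg _ hne
    have he : k * y ∈ pairStab G a b :=
      ⟨mem_stabilizer_iff.2 (by rw [mul_smul, hcomm_fix r y hr hy a hra, hka]),
        mem_stabilizer_iff.2 (by rw [mul_smul, hyb, smul_inv_smul])⟩
    have hex : k * y * x * (k * y)⁻¹ = x := by rw [H.pair_comm hab he hxD]; group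
    have hse : s = k * y * r * (k * y)⁻¹ := by
      rw [← hk, mul_assoc k y r, hy.eq]; group
    rw [hse, show k * y * r * (k * y)⁻¹ * x * (k * y * r * (k * y)⁻¹)⁻¹ =
      k * y * (r * ((k * y)⁻¹ * x * (k * y)) * r⁻¹) * (k * y)⁻¹ by group,
      show (k * y)⁻¹ * x * (k * y) = (k * y)⁻¹ * (k * y * x * (k * y)⁻¹) * (k * y) by rw [hex],
      show (k * y)⁻¹ * (k * y * x * (k * y)⁻¹) * (k * y) = x by group, hrx]
    calc k * y * x⁻¹ * (k * y)⁻¹ = (k * y * x * (k * y)⁻¹)⁻¹ := by group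
      _ = _ := by rw [hex]
  have hiso : Cfsg.IsIsolatedInvolution r := by
    refine ⟨hr, fun g hg => by_contra fun hne => ?_⟩
    set s := g * r * g⁻¹ with hsdef
    have hs : orderOf s = 2 := (CfsgLib.Invol.orderOf_conj_eq g r).trans hr
    have hsa : s • a = a := hcomm_fix r s hr hg.symm a hra
    have hw : orderOf (r * s) = 2 := CfsgLib.Invol.orderOf_eq_two_iff'.2
      ⟨fun e => hne ((eq_inv_of_mul_eq_one_right e).trans (CfsgLib.Invol.inv_eq_of_orderOf_two hr)), by
        rw [mul_assoc, ← mul_assoc s r s, ← hg.eq, mul_assoc r s s,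
          CfsgLib.Invol.mul_self_of_orderOf_two hs, mul_one,
          CfsgLib.Invol.mul_self_of_orderOf_two hr]⟩
    have hc' : r * s ∈ Subgroup.centralizer ({x} : Set G) := by
      exact Subgroup.mem_centralizer_singleton_iff.2 (commute_of_inverts hrx (hall s hs hsa))
    have := H.odd_centralizer (by omega) hab hxD hx
    have h2 := (orderOf_dvd_natCard (⟨r * s, hc'⟩ : Subgroup.centralizer ({x} : Set G)))
    rw [Subgroup.orderOf_mk, hw] at h2
    exact Nat.not_even_iff_odd.2 this (even_iff_two_dvd.2 h2)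
  have hO : Cfsg.oddCore G = ⊥ := CfsgLib.Invol.oddCore_eq_bot_of fun N hN hodd => by
    by_contra hN0
    exact hrns (rns_of_solvable_normal H.h2 hN hN0 (Cfsg.Agent.S0205.result hodd))
  have hcen := CfsgLib.Invol.zstar_center hiso hO
  obtain ⟨g, hga, -⟩ := H.exists_map hab hab.symm
  exact hab ((hcomm_fix r g hr (Subgroup.mem_center_iff.1 hcen g) a hra).symm.trans hga)

theorem fix_iff_of_subset {g h : G} (hs : ∀ p : Ω, g • p = p → h • p = p) (hc : fc Ω g = fc Ω h)
    (p : Ω) : h • p = p ↔ g • p = p := by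
  refine ⟨fun hp => ?_, hs p⟩
  have hf : Function.Injective (fun z : {x : Ω // g • x = x} => (⟨z.1, hs _ z.2⟩ : {x : Ω // h • x = x})) :=
    fun y z e => Subtype.ext (by simpa using e)
  obtain ⟨⟨z, hz⟩, hzp⟩ := (hf.bijective_of_nat_card_le hc.ge).2 ⟨p, hp⟩
  obtain rfl : z = p := congrArg Subtype.val hzp
  exact hz

/-- With at least three fixed points the centraliser is an elementary abelian 2-group. -/
theorem Hyp.exponent_two (H : Hyp G Ω i t) (hi : 3 ≤ i) :
    ∀ y : G, Commute y t → y * y = 1 := by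
  classical
  have h3 : 2 < Fintype.card {x : Ω // t • x = x} := by
    rw [← Nat.card_eq_fintype_card]
    have := H.hti
    change 2 < fc Ω t
    omega
  obtain ⟨⟨a, ha⟩, ⟨b, hb⟩, ⟨c, hc⟩, hab', hac', hbc'⟩ := Fintype.two_lt_card_iff.1 h3
  have hab : a ≠ b := fun e => hab' (Subtype.ext e)
  have hac : a ≠ c := fun e => hac' (Subtype.ext e)
  have hbc : b ≠ c := fun e => hbc' (Subtype.ext e)
  have hsq : ∀ y : G, Commute y t → ∀ p : Ω, t • p = p → y • p ≠ p → y * y = 1 := by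
    intro y hy p htp hyp
    by_contra h2
    have hy1 : y ≠ 1 := fun e => h2 (by rw [e, one_mul])
    have hyt : y * t ≠ 1 := fun e => h2 (by
      rw [eq_inv_of_mul_eq_one_left e, CfsgLib.Invol.inv_eq_of_orderOf_two H.ht,
        CfsgLib.Invol.mul_self_of_orderOf_two H.ht])
    have hcy2 : Commute (y * y) t := hy.mul_left hy
    have e2 : y * t * (y * t) = y * y := by
      rw [mul_assoc, ← mul_assoc t y t, ← hy.eq, mul_assoc y t t,
        CfsgLib.Invol.mul_self_of_orderOf_two H.ht, mul_one]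
    have f1 : ∀ q : Ω, (y * y) • q = q ↔ y • q = q := fix_iff_of_subset
      (fun q hq => by rw [mul_smul, hq, hq]) (by rw [H.hC _ hy hy1, H.hC _ hcy2 h2])
    have f2 : ∀ q : Ω, (y * y) • q = q ↔ (y * t) • q = q := fix_iff_of_subset
      (fun q hq => by rw [← e2, mul_smul, hq, hq])
      (by rw [H.hC _ (hy.mul_left (Commute.refl t)) hyt, H.hC _ hcy2 h2])
    have f3 : ∀ q : Ω, t • q = q ↔ y • q = q := fix_iff_of_subset (fun q hq => by
      have h := (f2 q).1 ((f1 q).2 hq)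
      rw [hy.eq, mul_smul, hq] at h
      exact h) (by rw [H.hC _ hy hy1, H.hti])
    exact hyp ((f3 p).1 htp)
  have hsw : ∀ p q : Ω, p ≠ q → t • p = p → t • q = q →
      ∃ u : G, Commute u t ∧ u • p = q ∧ u • q = p := by
    intro p q hpq hp hq
    obtain ⟨u⟩ := H.exists_swap hpq
    refine ⟨u.1, ?_, u.2, H.swap_back u⟩
    have h := H.inverts hpq u (d := t) ⟨mem_stabilizer_iff.2 hp, mem_stabilizer_iff.2 hq⟩
    rw [CfsgLib.Invol.inv_eq_of_orderOf_two H.ht, mul_inv_eq_iff_eq_mul] at h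
    exact h
  obtain ⟨u, hu, hua, hub⟩ := hsw a b hab ha hb
  obtain ⟨v, hv, hva, -⟩ := hsw a c hac ha hc
  intro y hy
  by_cases hyf : ∀ p : Ω, t • p = p → y • p = p
  swap
  · push Not at hyf
    obtain ⟨p, hp, hyp⟩ := hyf
    exact hsq y hy p hp hyp
  have hu2 := hsq u hu a ha (by rw [hua]; exact hab.symm)
  have hv2 := hsq v hv a ha (by rw [hva]; exact hac.symm)
  have hinv : ∀ w : G, Commute w t → w * w = 1 → ∀ p : Ω, t • p = p → w • p ≠ p → w * y * w = y⁻¹ := by
    intro w hw hw2 p hp hwp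
    have h := hsq (w * y) (hw.mul_left hy) p hp (by rw [mul_smul, hyf p hp]; exact hwp)
    refine eq_inv_of_mul_eq_one_left ?_
    rw [mul_assoc (w * y)]
    exact h
  have hvu : (v * u) • b ≠ b := by rw [mul_smul, hub, hva]; exact hbc.symm
  have hvu2 := hsq (v * u) (hv.mul_left hu) b hb hvu
  have e1 := hinv (v * u) (hv.mul_left hu) hvu2 b hb hvu
  have e2 : v * u * y * (v * u)⁻¹ = y := by
    have hu' : u⁻¹ = u := inv_eq_of_mul_eq_one_right hu2
    have hv' : v⁻¹ = v := inv_eq_of_mul_eq_one_right hv2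
    rw [mul_inv_rev, hu', hv', show v * u * y * (u * v) = v * (u * y * u) * v by group,
      hinv u hu hu2 a ha (by rw [hua]; exact hab.symm)]
    calc v * y⁻¹ * v = (v⁻¹ * y * v⁻¹)⁻¹ := by group
      _ = _ := by rw [hv', hinv v hv hv2 a ha (by rw [hva]; exact hac.symm), inv_inv]
  rw [inv_eq_of_mul_eq_one_right hvu2, e1] at e2
  exact inv_eq_iff_mul_eq_one.1 e2

/-- The conclusion with at least three fixed points. -/
theorem Hyp.of_many (H : Hyp G Ω i t) (hi : 3 ≤ i) (hrns : ¬ HasRNS G Ω) : Concl G := by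
  classical
  haveI : Fact (Nat.Prime 2) := ⟨Nat.prime_two⟩
  have hexp : ∀ v : G, orderOf v = 2 → ∀ y ∈ Subgroup.centralizer ({v} : Set G), y * y = 1 :=
    fun v hv y hy => (H.base hv).exponent_two hi y (Subgroup.mem_centralizer_singleton_iff.1 hy)
  have hC : CfsgLib.PGroup.CAI.CentAbelian G := by
    intro v hv
    refine ⟨⟨fun a b => Subtype.ext ?_⟩⟩
    have ea := inv_eq_of_mul_eq_one_right (hexp v hv _ a.2)
    have eb := inv_eq_of_mul_eq_one_right (hexp v hv _ b.2)
    have eab := inv_eq_of_mul_eq_one_right (hexp v hv _ (Subgroup.mul_mem _ a.2 b.2))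
    show (a : G) * b = b * a
    rw [mul_inv_rev, ea, eb] at eab
    exact eab.symm
  -- every 2-subgroup lies in an involution centraliser
  have hsyl : ∀ S : Sylow 2 G, ∃ z : G, orderOf z = 2 ∧ z ∈ (S : Subgroup G) ∧
      (S : Subgroup G) ≤ Subgroup.centralizer ({z} : Set G) := by
    intro S
    haveI : Nontrivial (S : Subgroup G) := (Subgroup.nontrivial_iff_ne_bot _).2
      (S.ne_bot_of_dvd_card (H.ht ▸ orderOf_dvd_natCard t))
    haveI := S.2.center_nontrivial
    obtain ⟨k, hk0, hk⟩ := (S.2.to_subgroup (Subgroup.center (S : Subgroup G))).nontrivial_iff_card.1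
      inferInstance
    obtain ⟨z, hz⟩ := exists_prime_orderOf_dvd_card' (G := Subgroup.center (S : Subgroup G)) 2
      (hk ▸ dvd_pow_self 2 hk0.ne')
    exact ⟨_, by rw [Subgroup.orderOf_coe, Subgroup.orderOf_coe, hz], (z : (S : Subgroup G)).2,
      fun s hs => Subgroup.mem_centralizer_singleton_iff.2
        (congrArg Subtype.val (Subgroup.mem_center_iff.1 z.2 ⟨s, hs⟩))⟩
  have hnn : ∀ S : Sylow 2 G, ¬ (S : Subgroup G).Normal := by
    intro S hn
    obtain ⟨z, hz, hzS, hle⟩ := hsyl S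
    refine hrns (rns_of_abelian_normal H.h2 (hn := hn) (fun e => ?_) fun a ha b hb => ?_)
    · rw [e, Subgroup.mem_bot] at hzS
      simp [hzS] at hz
    · exact CfsgLib.PGroup.CAI.comm_of_mem hC hz (hle ha) (hle hb)
  have hcyc : ∀ S : Sylow 2 G, ¬ IsCyclic (S : Subgroup G) := by
    intro S hcyc
    haveI := hcyc
    obtain ⟨z, hz, -, hle⟩ := hsyl S
    haveI : Nontrivial {x : Ω // z • x = x} := Finite.one_lt_card_iff_nontrivial.1 (by
      have := (H.invol hz).1
      change 1 < fc Ω z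
      omega)
    obtain ⟨⟨p, hp⟩, ⟨q, hq⟩, hpq'⟩ := exists_pair_ne {x : Ω // z • x = x}
    have hpq : p ≠ q := fun e => hpq' (Subtype.ext e)
    obtain ⟨u⟩ := (H.base hz).exists_swap hpq
    have hu : orderOf (u.1 : G) = 2 := ((H.base hz).conj_fix u.1.2).1
    have huc : (u.1 : G) ∈ Subgroup.centralizer ({z} : Set G) := by
      have h := (H.base hz).inverts hpq u (d := z)
        ⟨mem_stabilizer_iff.2 hp, mem_stabilizer_iff.2 hq⟩
      rw [CfsgLib.Invol.inv_eq_of_orderOf_two hz, mul_inv_eq_iff_eq_mul] at h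
      exact Subgroup.mem_centralizer_singleton_iff.2 h
    -- `C(z)` is a 2-group, hence equal to `S`
    have hp2 : IsPGroup 2 (Subgroup.centralizer ({z} : Set G)) := fun y =>
      ⟨1, Subtype.ext (by rw [pow_one, SubmonoidClass.coe_pow, pow_two]; exact hexp z hz _ y.2)⟩
    have heq := S.3 hp2 hle
    have huS : (u.1 : G) ∈ (S : Subgroup G) := heq ▸ huc
    have hzS : z ∈ (S : Subgroup G) := heq ▸ Subgroup.mem_centralizer_singleton_iff.2 rfl
    haveI := Fintype.ofFinite (S : Subgroup G)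
    have h2 := IsCyclic.card_pow_eq_one_le (α := (S : Subgroup G)) (n := 2) (by norm_num)
    have hne : z ≠ (u.1 : G) := fun e => hpq (by
      have h := u.2
      rw [← e, hp] at h
      exact h)
    have h3 : ({1, ⟨z, hzS⟩, ⟨(u.1 : G), huS⟩} : Finset (S : Subgroup G)).card ≤ 2 := by
      refine le_trans (Finset.card_le_card ?_) h2
      intro s hs
      refine Finset.mem_filter.2 ⟨Finset.mem_univ _, Subtype.ext ?_⟩
      rw [SubmonoidClass.coe_pow, pow_two]
      exact hexp z hz _ (hle s.2)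
    rw [Finset.card_insert_of_notMem, Finset.card_pair] at h3
    · omega
    · exact fun e => hne (congrArg Subtype.val e)
    · simp only [Finset.mem_insert, Finset.mem_singleton, not_or]
      exact ⟨fun e => CfsgLib.Invol.ne_one_of_orderOf_two hz (congrArg Subtype.val e).symm,
        fun e => CfsgLib.Invol.ne_one_of_orderOf_two hu (congrArg Subtype.val e).symm⟩
  have hfix : CfsgLib.PGroup.CAI.FixesOne G := by
    intro s hs k hk hk1 g hg
    set A := Subgroup.centralizer ({s} : Set G) with hA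
    have hk2 : orderOf k = 2 := CfsgLib.Invol.orderOf_eq_two_iff'.2 ⟨hk1, hexp s hs k hk⟩
    have hk' : orderOf (g⁻¹ * k * g) = 2 := by
      simpa [hk2] using CfsgLib.Invol.orderOf_conj_eq g⁻¹ k
    have hp2 : IsPGroup 2 A := fun y =>
      ⟨1, Subtype.ext (by rw [pow_one, SubmonoidClass.coe_pow, pow_two]; exact hexp s hs _ y.2)⟩
    have hz2 : IsPGroup 2 (Subgroup.zpowers (g⁻¹ * k * g)) :=
      IsPGroup.of_card (n := 1) (by rw [Nat.card_zpowers, hk', pow_one])
    obtain ⟨S, hS⟩ := (hz2.to_sup_of_normal_right' hp2 (Subgroup.zpowers_le.2 hg)).exists_le_sylow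
    obtain ⟨z, hz, -, hle⟩ := hsyl S
    have hsS : s ∈ (S : Subgroup G) :=
      hS (Subgroup.mem_sup_right (Subgroup.mem_centralizer_singleton_iff.2 rfl))
    have hk'A : g⁻¹ * k * g ∈ A := Subgroup.mem_centralizer_singleton_iff.2
      (CfsgLib.PGroup.CAI.comm_of_mem hC hz (hle (hS (Subgroup.mem_sup_left
        (Subgroup.mem_zpowers _)))) (hle hsS))
    have e1 := CfsgLib.PGroup.CAI.cent_eq_of_comm hC.same hs hk2
      (Subgroup.mem_centralizer_singleton_iff.1 hk)
    have e2 := CfsgLib.PGroup.CAI.cent_eq_of_comm hC.same hs hk'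
      (Subgroup.mem_centralizer_singleton_iff.1 hk'A)
    refine Subgroup.mem_normalizer_iff.2 fun y => ?_
    have h := CfsgLib.PGroup.CAI.mem_cent_conj_iff (g := g⁻¹) (x := k) (w := y)
    rw [inv_inv, ← e2, ← e1] at h
    exact h
  obtain ⟨S⟩ : Nonempty (Sylow 2 G) := inferInstance
  obtain ⟨F, iF, iF', -, hiso⟩ := CfsgLib.PGroup.CAI.psl_of_cai ⟨hcyc, hnn⟩ hC hfix S (hcyc S)
  exact Or.inl ⟨F, iF, iF', hiso⟩

/-- The classification. -/
theorem Hyp.concl (H : Hyp G Ω i t) (hrns : ¬ HasRNS G Ω) : Concl G := by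
  rcases (show i = 0 ∨ i = 1 ∨ i = 2 ∨ 3 ≤ i by omega) with h | h | h | h
  · exact H.of_three hrns (H.three_zero h)
  · exact H.of_three hrns (H.three_one h hrns)
  · refine H.of_three hrns fun g a b c hab hbc hac ha hb hc => by_contra fun hg => ?_
    obtain ⟨-, -, -, hfc⟩ := H.fc_pair h.ge hab
    have h1 := hfc g ⟨mem_stabilizer_iff.2 ha, mem_stabilizer_iff.2 hb⟩ hg
    have h2 := three_le_fc hab hbc hac ha hb hc
    omega
  · exact H.of_many h hrns

end CfsgLib.ConstFix
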